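import Groth.Agent.CohFinite.Proper
import Groth.Agent.CohFinite.Linear
import Groth.Agent.CohQC.QuasiAffine
import Groth.Agent.SerrePn.Twists
import Groth.Agent.QC.Closure
import Groth.Agent.QC.Pullback
import Groth.Agent.ModDesc.Iso
import Groth.Agent.DerPerf.Local
import Groth.Agent.Devissage.Piece
import Groth.Agent.SmDiv.Main
import Groth.Agent.Rigid.Smooth
import Groth.Agent.S0034
import Groth.Agent.S1536
import Groth.Agent.S0014
import Groth.Agent.S2252
import Groth.Agent.S2384
import Groth.Prelude.Def_Canon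
import Groth.Prelude.Def_Models

/-!
`H¹(X, ω)` of the `1`-dualizing module of a proper relative curve over a discrete valuation ring with
free `H¹(X, O)`.
-/

set_option autoImplicit false
set_option backward.isDefEq.respectTransparency false
set_option backward.isDefEq.respectTransparency.types false
set_option synthInstance.maxHeartbeats 400000
set_option maxHeartbeats 1000000

universe u

open CategoryTheory CategoryTheory.Limits AlgebraicGeometry TopologicalSpace Opposite TensorProduct

noncomputable section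

namespace Groth.Agent.DualH1

open Groth.Agent.CohQC (toAbF)
open Groth.Agent.CohFinite (hhMap hhδ hhEquiv shortExact_toAb toAbMap δH)

theorem projective_sub {A M : Type u} [CommRing A] [IsDomain A] [IsPrincipalIdealRing A]
    [AddCommGroup M] [Module A M] [Module.Finite A M] [Module.Free A M] (N : Submodule A M) :
    Module.Projective A N := by
  obtain ⟨n, b⟩ := Submodule.basisOfPid (Module.Free.chooseBasis A M) N
  exact Module.Projective.of_basis b

theorem subsingleton_of_finrank_zero {K V : Type u} [Field K] [AddCommGroup V] [Module K V]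
    [Module.Finite K V] (h : Module.finrank K V = 0) : Subsingleton V :=
  Module.finrank_zero_iff.1 h

variable (R : Type u) [CommRing R] (X : Scheme.{u}) [X.Over (Spec (CommRingCat.of R))]

/-- Global sections as degree zero cohomology. -/
abbrev h0Equiv (M : X.Modules) : Coh.HH X M 0 ≃+ ((Coh.toAb M).obj.obj (op ⊤)) :=
  Sheaf.H.equiv₀ (Coh.toAb M) (isTerminalTop (α := Opens X))

/-- The class of the unit section. -/
def one : Coh.HH X (Coh.structureModule X) 0 :=
  (h0Equiv X (Coh.structureModule X)).symm (1 : Γ(X, ⊤))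

variable {X}

theorem h0Equiv_smul (r : R) (x : Coh.HH X (Coh.structureModule X) 0) :
    (h0Equiv X _ (r • x) : Γ(X, ⊤)) =
      HMul.hMul (α := Γ(X, ⊤)) (β := Γ(X, ⊤)) (γ := Γ(X, ⊤))
        (Coh.toGlobal (X ↘ Spec (CommRingCat.of R)) r) (h0Equiv X _ x) := by
  change h0Equiv X _ (Sheaf.H.map (Coh.smulAb _ (Coh.toGlobal _ r)) 0 x) = _
  rw [← Sheaf.H.equiv₀_naturality, Coh.smulAb_app]
  congr 1
  change (X.ringCatSheaf.obj.map (𝟙 (op (⊤ : X.Opens)))).hom _ = _
  rw [CategoryTheory.Functor.map_id]
  rfl

variable [IsDomain R] [Module.Finite R (Coh.HH X (Coh.structureModule X) 0)]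

/-- Every global function is, up to a nonzero factor, a multiple of `1`. -/
theorem dep (h : Module.finrank R (Coh.HH X (Coh.structureModule X) 0) = 1)
    (x : Coh.HH X (Coh.structureModule X) 0) : ∃ c r : R, c ≠ 0 ∧ c • x = r • one X := by
  have hone : ∀ t : R, t • one X = 0 → t = 0 := by
    intro t ht
    by_contra ht0
    have htg : (Coh.toGlobal (X ↘ Spec (CommRingCat.of R)) t : Γ(X, ⊤)) = 0 := by
      have := h0Equiv_smul R t (one X)
      rw [ht, map_zero, one, AddEquiv.apply_symm_apply] at this
      exact (mul_one _).symm.trans this.symm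
    have h0 : Module.finrank R (Coh.HH X (Coh.structureModule X) 0) = 0 := by
      refine Module.finrank_eq_zero_iff.2 fun y => ⟨t, ht0, ?_⟩
      apply (h0Equiv X _).injective
      rw [map_zero]
      refine (h0Equiv_smul R t y).trans ?_
      rw [htg]
      exact zero_mul (M₀ := Γ(X, ⊤)) _
    omega
  have hli : ¬ LinearIndependent R ![x, one X] := fun hli => by
    have := hli.fintype_card_le_finrank
    rw [h, Fintype.card_fin] at this
    omega
  rw [LinearIndependent.pair_iff] at hli
  push Not at hli
  obtain ⟨s, t, hst, hne⟩ := hli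
  refine ⟨s, -t, fun hs => ?_, ?_⟩
  · exact hne hs (hone t (by simpa [hs] using hst))
  · rw [neg_smul]; exact eq_neg_of_add_eq_zero_left hst

variable [IsPrincipalIdealRing R] [IsProper (X ↘ Spec (CommRingCat.of R))]
  {ω : X.Modules} {tr : Coh.HH X ω 1 →ₗ[R] R}

/-- The trace is injective. -/
theorem tr_injective (hω : Canon.IsRDualOver R X 1 ω tr)
    (h : Module.finrank R (Coh.HH X (Coh.structureModule X) 0) = 1)
    [Module.Free R (Coh.HH X (Coh.structureModule X) 1)] : Function.Injective tr := by
  rw [injective_iff_map_eq_zero]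
  intro a ha
  set f := X ↘ Spec (CommRingCat.of R)
  have : IsLocallyNoetherian X := LocallyOfFiniteType.isLocallyNoetherian f
  have : CompactSpace X := QuasiCompact.compactSpace_of_compactSpace f
  have : AlgebraicGeometry.IsNoetherian X := {}
  have := SerrePn.enoughInjectives (X := X)
  let ι : ω ⟶ Injective.under ω := Injective.ι ω
  have hT : (ShortComplex.mk ι (cokernel.π ι) (cokernel.condition ι)).ShortExact :=
    { exact := ShortComplex.exact_of_g_is_cokernel _ (cokernelIsCokernel ι) }
  have := SerrePn.hh_injective (Injective.under ω) 0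
  obtain ⟨q, hq⟩ := (CohFinite.map_f_eq_zero_iff (shortExact_toAb hT) 0 a).1
    (Subsingleton.elim (α := Coh.HH X (Injective.under ω) 1) _ _)
  let φ : Coh.structureModule X ⟶ cokernel ι := CohQC.secHom (h0Equiv X (cokernel ι) q)
  have hφ : hhMap R φ 0 (one X) = q := by
    apply (h0Equiv X (cokernel ι)).injective
    change h0Equiv X (cokernel ι) (Sheaf.H.map (toAbMap φ) 0 (one X)) = _
    rw [← Sheaf.H.equiv₀_naturality, one, AddEquiv.apply_symm_apply]
    exact (CohQC.secHom_app_one _ _).trans (QC.res_self _ _ _)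
  let j : ω ⟶ pullback (cokernel.π ι) φ := pullback.lift ι 0 (by simp)
  have hjw : j ≫ pullback.snd (cokernel.π ι) φ = 0 := pullback.lift_snd _ _ _
  have : Mono j := by
    have : Mono (j ≫ pullback.fst (cokernel.π ι) φ) := by
      rw [pullback.lift_fst]; infer_instance
    exact mono_of_mono j (pullback.fst (cokernel.π ι) φ)
  have hS : (ShortComplex.mk j (pullback.snd (cokernel.π ι) φ) hjw).ShortExact :=
    { exact := ShortComplex.exact_of_f_is_kernel _ (KernelFork.IsLimit.ofι' j hjw fun {Z} k hk =>
        ⟨hT.exact.lift (k ≫ pullback.fst _ _)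
          (by simp [pullback.condition, reassoc_of% hk]), by
          apply pullback.hom_ext
          · rw [Category.assoc, pullback.lift_fst]
            exact hT.exact.lift_f _ _
          · rw [Category.assoc, hjw, comp_zero, hk]⟩) }
  let m : ShortComplex.mk j (pullback.snd (cokernel.π ι) φ) hjw ⟶
      ShortComplex.mk ι (cokernel.π ι) (cokernel.condition ι) :=
    ShortComplex.homMk (𝟙 ω) (pullback.fst _ _) φ
      (by simp [j]) (by simp [pullback.condition])
  have hδ : hhδ R hS 0 (one X) = a := by
    have := CohFinite.δH_natural (shortExact_toAb hS) (shortExact_toAb hT)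
      ((toAbF X).mapShortComplex.map m) 0 (one X)
    change hhδ R hT 0 (hhMap R φ 0 (one X)) = hhMap R (𝟙 ω) 1 (hhδ R hS 0 (one X)) at this
    rw [hφ, CohFinite.hhMap_id] at this
    exact this.symm.trans hq
  have hE : Coh.IsQCoh (pullback (cokernel.π ι) φ) :=
    Groth.Agent.S2384.result _ hS hω.1 (QC.isQCoh_unit X)
  let L : Coh.HH X ω 1 →ₗ[R] Coh.HH X (pullback (cokernel.π ι) φ) 1 := hhMap R j 1
  let g : Coh.HH X (pullback (cokernel.π ι) φ) 1 →ₗ[R] Coh.HH X (Coh.structureModule X) 1 :=
    hhMap R (pullback.snd (cokernel.π ι) φ) 1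
  have hker : LinearMap.ker L ≤ LinearMap.ker tr := by
    intro x hx
    obtain ⟨y, hy⟩ := (CohFinite.map_f_eq_zero_iff (shortExact_toAb hS) 0 x).1 hx
    obtain ⟨c, r, hc, hcr⟩ := dep R h y
    have e : c • tr x = 0 := by
      rw [show x = hhδ R hS 0 y from hy.symm, ← map_smul, ← map_smul, hcr, map_smul, map_smul, hδ,
        ha, smul_zero]
    exact (smul_eq_zero_iff_right hc).1 e
  have hgL : ∀ x, g (L x) = 0 := fun x =>
    (CohFinite.map_g_eq_zero_iff (shortExact_toAb hS) 1 (L x)).2 ⟨x, rfl⟩
  have : Module.Finite R (Coh.HH X (Coh.structureModule X) 1) :=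
    CohFinite.finite_proper R X _ (Devissage.isCoh_unit X) 1
  have : Module.Projective R (LinearMap.range g) := projective_sub (LinearMap.range g)
  obtain ⟨s, hs⟩ := Module.projective_lifting_property g.rangeRestrict LinearMap.id
    g.surjective_rangeRestrict
  have hp : ∀ y, y - s (g.rangeRestrict y) ∈ LinearMap.range L := by
    intro y
    obtain ⟨x, hx⟩ := (CohFinite.map_g_eq_zero_iff (shortExact_toAb hS) 1
      (y - s (g.rangeRestrict y))).1 (by
        change g (y - s (g.rangeRestrict y)) = 0
        rw [map_sub, sub_eq_zero]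
        exact (congrArg Subtype.val (LinearMap.congr_fun hs (g.rangeRestrict y))).symm)
    exact ⟨x, hx⟩
  let p : Coh.HH X (pullback (cokernel.π ι) φ) 1 →ₗ[R] LinearMap.range L :=
    (LinearMap.id - s ∘ₗ g.rangeRestrict).codRestrict _ hp
  let l : Coh.HH X (pullback (cokernel.π ι) φ) 1 →ₗ[R] R :=
    (LinearMap.ker L).liftQ tr hker ∘ₗ L.quotKerEquivRange.symm.toLinearMap ∘ₗ p
  obtain ⟨ψ, hψ⟩ := (hω.2 _ hE).2 l
  have hjψ : j ≫ ψ = 𝟙 ω := by
    apply (hω.2 ω hω.1).1
    ext x
    have e1 : Canon.dualityMap R X 1 ω tr ω (j ≫ ψ) x =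
        Canon.dualityMap R X 1 ω tr _ ψ (L x) :=
      congrArg tr (CohFinite.hhMap_comp R j ψ 1 x)
    have e2 : Canon.dualityMap R X 1 ω tr ω (𝟙 ω) x = tr x :=
      congrArg tr (CohFinite.hhMap_id R ω 1 x)
    rw [e1, e2, hψ]
    have e3 : p (L x) = ⟨L x, LinearMap.mem_range_self L x⟩ := by
      apply Subtype.ext
      have : g.rangeRestrict (L x) = 0 := Subtype.ext (hgL x)
      change L x - s (g.rangeRestrict (L x)) = L x
      rw [this, map_zero, sub_zero]
    have e4 : L.quotKerEquivRange.symm ⟨L x, LinearMap.mem_range_self L x⟩ =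
        Submodule.Quotient.mk x := LinearMap.quotKerEquivRange_symm_apply_image L x _
    simp only [l, LinearMap.comp_apply, LinearEquiv.coe_coe, e3, e4, Submodule.liftQ_apply]
  have hLa : L a = 0 :=
    (CohFinite.map_f_eq_zero_iff (shortExact_toAb hS) 0 a).2 ⟨one X, hδ⟩
  have hja := CohFinite.hhMap_comp R j ψ 1 a
  rw [hjψ, CohFinite.hhMap_id, show hhMap R j 1 a = 0 from hLa, map_zero] at hja
  exact hja

end Groth.Agent.DualH1

namespace Groth.Agent.DualH1

open Groth.Agent.CohFinite (hhMap hhEquiv)

variable (R : Type u) [CommRing R] [IsDomain R] [IsDiscreteValuationRing R]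
  {X C : Scheme.{u}} [X.Over (Spec (CommRingCat.of R))]
  (f : C ⟶ Spec (CommRingCat.of (FractionRing R)))

theorem isOpenImmersion_generic :
    IsOpenImmersion (Spec.map (CommRingCat.ofHom (algebraMap R (FractionRing R)))) := by
  obtain ⟨ϖ, hϖ⟩ := IsDiscreteValuationRing.exists_irreducible R
  have : IsLocalization.Away ϖ (FractionRing R) := by
    refine IsLocalization.Away.mk ϖ ?_ (fun z => ?_) fun a b hab => ?_
    · exact (map_ne_zero_iff _ (IsFractionRing.injective R _)).2 hϖ.ne_zero |>.isUnit
    · obtain ⟨a, ⟨b, hb⟩, rfl⟩ := IsLocalization.exists_mk'_eq (nonZeroDivisors R) z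
      obtain ⟨n, v, rfl⟩ :=
        IsDiscreteValuationRing.eq_unit_mul_pow_irreducible (nonZeroDivisors.ne_zero hb) hϖ
      refine ⟨n, a * (↑v⁻¹ : R), ?_⟩
      have e : algebraMap R (FractionRing R) ϖ ^ n =
          algebraMap R (FractionRing R) ((↑v * ϖ ^ n) * (↑v⁻¹ : R)) := by
        rw [← map_pow, mul_comm (↑v : R), mul_assoc, Units.mul_inv, mul_one]
      rw [e, map_mul _ _ (↑v⁻¹ : R), ← mul_assoc]
      have := IsLocalization.mk'_spec (FractionRing R) a ⟨↑v * ϖ ^ n, hb⟩
      rw [map_mul _ a (↑v⁻¹ : R)]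
      exact congrArg (· * algebraMap R (FractionRing R) (↑v⁻¹ : R)) this
    · exact ⟨0, by rw [IsFractionRing.injective R _ hab]⟩
  exact IsOpenImmersion.of_isLocalization ϖ

theorem finrank_h0 [SmoothOfRelativeDimension 1 f] [IsProper f] [GeometricallyConnected f]
    (hX : Models.IsModel R X (X ↘ Spec (CommRingCat.of R)) C f)
    [IsProper (X ↘ Spec (CommRingCat.of R))] :
    Module.finrank R (Coh.HH X (Coh.structureModule X) 0) = 1 := by
  obtain ⟨-, -, -, g, hg⟩ := hX
  set p := X ↘ Spec (CommRingCat.of R)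
  have : CompactSpace X := QuasiCompact.compactSpace_of_compactSpace p
  have : IsLocallyNoetherian X := LocallyOfFiniteType.isLocallyNoetherian p
  let : C.Over (Spec (CommRingCat.of (FractionRing R))) := ⟨f⟩
  have : IsProper (C ↘ Spec (CommRingCat.of (FractionRing R))) := ‹IsProper f›
  have : GeometricallyConnected (C ↘ Spec (CommRingCat.of (FractionRing R))) :=
    ‹GeometricallyConnected f›
  have : Smooth f := SmoothOfRelativeDimension.smooth 1 f
  have : GeometricallyReduced (C ↘ Spec (CommRingCat.of (FractionRing R))) :=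
    Rigid.geometricallyReduced_of_smooth f
  have : Module.Flat R (FractionRing R) := IsLocalization.flat _ (nonZeroDivisors R)
  have : Coh.IsQCoh (Coh.structureModule X) := QC.isQCoh_unit X
  obtain ⟨e⟩ := Groth.Agent.S0034.result R (FractionRing R) X C g hg (Coh.structureModule X) 0
  have h1 := Groth.Agent.S1536.result (FractionRing R) C
  rw [← ((e.trans (hhEquiv (FractionRing R) (DerPerf.pullUnitIso g) 0))).finrank_eq] at h1
  rwa [IsBaseChange.finrank_eq (TensorProduct.isBaseChange R _ (FractionRing R))] at h1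

theorem not_isAffine [SmoothOfRelativeDimension 1 f] [IsProper f] [Nonempty C] : ¬ IsAffine C := by
  intro h
  have : IsAffineHom f := inferInstance
  have : IsFinite f := IsFinite.iff_isProper_and_isAffineHom.2 ⟨inferInstance, inferInstance⟩
  have : IsArtinianScheme (Spec (CommRingCat.of (FractionRing R))) := inferInstance
  have : IsLocallyArtinian C := IsLocallyArtinian.of_locallyQuasiFinite f
  have h1 := SmDiv.topologicalKrullDim_eq f 1
  have h0 := topologicalKrullDim_zero_of_discreteTopology C
  rw [h1] at h0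
  exact absurd h0 (by norm_num)

theorem tr_ne_zero [SmoothOfRelativeDimension 1 f] [IsProper f] [GeometricallyConnected f]
    (hX : Models.IsModel R X (X ↘ Spec (CommRingCat.of R)) C f)
    [IsProper (X ↘ Spec (CommRingCat.of R))]
    {ω : X.Modules} {tr : Coh.HH X ω 1 →ₗ[R] R} (hω : Canon.IsRDualOver R X 1 ω tr) : tr ≠ 0 := by
  intro htr
  obtain ⟨-, -, -, g, hg⟩ := hX
  set p := X ↘ Spec (CommRingCat.of R)
  have : CompactSpace X := QuasiCompact.compactSpace_of_compactSpace p
  have : IsLocallyNoetherian X := LocallyOfFiniteType.isLocallyNoetherian p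
  have : AlgebraicGeometry.IsNoetherian X := {}
  let : C.Over (Spec (CommRingCat.of (FractionRing R))) := ⟨f⟩
  have : Nonempty C := f.surjective.nonempty
  have : CompactSpace C := QuasiCompact.compactSpace_of_compactSpace f
  have : QuasiSeparatedSpace C := quasiSeparatedSpace_of_quasiSeparated f
  have : IsOpenImmersion g :=
    MorphismProperty.of_isPullback (P := @IsOpenImmersion) hg.flip (isOpenImmersion_generic R)
  refine not_isAffine R f (Groth.Agent.S0014.result C fun I _ _ hI hIft => ?_)
  let e : C ≅ g.opensRange := g.isoOpensRange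
  have hG : CohB1.IsFT ((Scheme.Modules.pullback e.inv).obj I) := ModDesc.isFT_pullback _ hI hIft
  have : Coh.IsQCoh ((Scheme.Modules.pullback e.inv).obj I) := QC.isQCoh_pullback _ hI
  obtain ⟨G, hG1, hG2, ⟨a⟩⟩ := Groth.Agent.S2252.result
    (fun x => ⟨⊤, trivial, inferInstance⟩) g.opensRange _ hG
  have b : (Scheme.Modules.pullback g).obj G ≅ I :=
    (Scheme.Modules.pullbackCongr g.isoOpensRange_hom_ι.symm).app G ≪≫
      ((Scheme.Modules.pullbackComp e.hom g.opensRange.ι).app G).symm ≪≫
      (Scheme.Modules.pullback e.hom).mapIso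
        (((Scheme.Modules.restrictFunctorIsoPullback g.opensRange.ι).app G).symm ≪≫ a) ≪≫
      (Scheme.Modules.pullbackComp e.hom e.inv).app I ≪≫
      (Scheme.Modules.pullbackCongr e.hom_inv_id).app I ≪≫ (Scheme.Modules.pullbackId C).app I
  have : Coh.IsQCoh G := hG1
  have : Module.Flat R (FractionRing R) := IsLocalization.flat _ (nonZeroDivisors R)
  have : Module.Finite R (Coh.HH X G 1) := CohFinite.finite_proper R X G ⟨hG1, hG2⟩ 1
  obtain ⟨q⟩ := Groth.Agent.S0034.result R (FractionRing R) X C g hg G 1
  let q' := (q.trans (hhEquiv (FractionRing R) b 1)).symm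
  have hzero : ∀ l : Coh.HH X G 1 →ₗ[R] R, l = 0 := by
    intro l
    obtain ⟨ψ, hψ⟩ := (hω.2 G hG1).2 l
    rw [← hψ, Canon.dualityMap, htr, LinearMap.zero_comp]
  have hfr : Module.finrank R (Coh.HH X G 1) = 0 := by
    refine Module.finrank_eq_zero_iff.2 fun x => ?_
    by_contra hx
    push Not at hx
    let M := Coh.HH X G 1
    let T := Submodule.torsion R M
    have hxT : Submodule.Quotient.mk (p := T) x ≠ 0 := by
      rw [Ne, Submodule.Quotient.mk_eq_zero]
      rintro ⟨⟨c, hc⟩, hcx⟩
      exact hx c (nonZeroDivisors.ne_zero hc) hcx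
    let B := Module.Free.chooseBasis R (M ⧸ T)
    obtain ⟨i, hi⟩ : ∃ i, B.coord i (Submodule.Quotient.mk x) ≠ 0 := by
      by_contra hall
      push Not at hall
      exact hxT (B.forall_coord_eq_zero_iff.1 hall)
    exact hi (LinearMap.congr_fun (hzero (B.coord i ∘ₗ T.mkQ)) x)
  rw [← IsBaseChange.finrank_eq (TensorProduct.isBaseChange R _ (FractionRing R))] at hfr
  have : Module.Finite (FractionRing R) (FractionRing R ⊗[R] Coh.HH X G 1) := inferInstance
  have : Subsingleton (FractionRing R ⊗[R] Coh.HH X G 1) := subsingleton_of_finrank_zero hfr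
  exact q'.toEquiv.subsingleton

theorem main [SmoothOfRelativeDimension 1 f] [IsProper f] [GeometricallyConnected f]
    (hX : Models.IsModel R X (X ↘ Spec (CommRingCat.of R)) C f)
    [IsProper (X ↘ Spec (CommRingCat.of R))]
    {ω : X.Modules} {tr : Coh.HH X ω 1 →ₗ[R] R} (hω : Canon.IsRDualOver R X 1 ω tr)
    (hcf : Module.Free R (Coh.HH X (Coh.structureModule X) 1)) :
    Module.Free R (Coh.HH X ω 1) ∧
      Module.finrank R (Coh.HH X ω 1) =
        Module.finrank R (Coh.HH X (Coh.structureModule X) 0) := by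
  have h := finrank_h0 R f hX
  have : IsLocallyNoetherian X :=
    LocallyOfFiniteType.isLocallyNoetherian (X ↘ Spec (CommRingCat.of R))
  have : Module.Finite R (Coh.HH X (Coh.structureModule X) 0) :=
    CohFinite.finite_proper R X _ (Devissage.isCoh_unit X) 0
  have hinj := tr_injective R hω h
  obtain ⟨a, ha⟩ := (IsPrincipalIdealRing.principal (LinearMap.range tr)).principal
  have ha0 : a ≠ 0 := by
    rintro rfl
    apply tr_ne_zero R f hX hω
    rw [← LinearMap.range_eq_bot, ha]
    simp
  let e : Coh.HH X ω 1 ≃ₗ[R] R := (LinearEquiv.ofInjective tr hinj).trans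
    ((LinearEquiv.ofEq _ _ ha).trans (LinearEquiv.toSpanNonzeroSingleton R R a ha0).symm)
  exact ⟨Module.Free.of_equiv e.symm, by rw [e.finrank_eq, h, Module.finrank_self]⟩

end Groth.Agent.DualH1
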